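import Groth.Agent.SSMod.K755.Plan5
import Groth.Agent.SSMod.K971.Basic

/-!
# Transport of stable modifications from an open immersion to the open subscheme

`K755.SSPlan.OpenC`.
-/

set_option autoImplicit false
universe u

open CategoryTheory CategoryTheory.Limits AlgebraicGeometry TopologicalSpace

namespace K478.OpenC

variable {S C C' D' V : Scheme.{u}}

/-- `NoExcComp` with the structure morphism of the source up to equality. -/
theorem noExcComp_congr {φ : C ⟶ S} {i' : D' ⟶ C'} {fC : C' ⟶ C} (h : SSMod.NoExcComp φ i' fC) (m : C' ⟶ S)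
    (hm : m = fC ≫ φ) (Ω : Type u) [Field Ω] [IsAlgClosed Ω] (g : Spec (CommRingCat.of Ω) ⟶ S)
    (l : pullback m g ⟶ pullback φ g) (hl : l ≫ pullback.fst φ g = pullback.fst m g ≫ fC)
    (hl' : l ≫ pullback.snd φ g = pullback.snd m g) (Z : Set ↥(pullback m g))
    (hZ : Z ∈ irreducibleComponents (↥(pullback m g) : Type u)) :
    ¬ SSMod.IsExcComp Ω l (pullback.snd m g)
      ((pullback.fst m g).base ⁻¹' Set.range (i'.base : D' → C')) Z := by
  subst hm
  have h1 : l = CInt.baseChangeOver fC φ g := by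
    apply pullback.hom_ext
    · rw [hl]
      exact (pullback.lift_fst _ _ _).symm
    · rw [hl']
      exact ((pullback.lift_snd _ _ _).trans (Category.comp_id _)).symm
  rw [h1]
  exact h Ω g Z hZ

/-- A component contracted by `fV` is contracted by `fV ≫ r`. -/
theorem noExcComp_of_comp {φ : C ⟶ S} {i' : D' ⟶ C'} {fC : C' ⟶ C} (h : SSMod.NoExcComp φ i' fC) (φV : V ⟶ S)
    (fV : C' ⟶ V) (r : V ⟶ C) (hr : r ≫ φ = φV) (hf : fV ≫ r = fC) : SSMod.NoExcComp φV i' fV := by
  intro Ω _ _ g Z hZ hexc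
  have hm : fV ≫ φV = fC ≫ φ := by rw [← hr, ← Category.assoc, hf]
  let b : pullback φV g ⟶ pullback φ g := pullback.lift (pullback.fst φV g ≫ r) (pullback.snd φV g)
    (by rw [Category.assoc, hr, pullback.condition])
  have e1 : CInt.baseChangeOver fV φV g ≫ pullback.fst φV g = pullback.fst (fV ≫ φV) g ≫ fV :=
    pullback.lift_fst _ _ _
  have e2 : CInt.baseChangeOver fV φV g ≫ pullback.snd φV g = pullback.snd (fV ≫ φV) g :=
    (pullback.lift_snd _ _ _).trans (Category.comp_id _)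
  refine noExcComp_congr h (fV ≫ φV) hm Ω g (CInt.baseChangeOver fV φV g ≫ b) ?_ ?_ Z hZ ?_
  · rw [Category.assoc, pullback.lift_fst, ← Category.assoc, e1, Category.assoc, hf]
  · rw [Category.assoc, pullback.lift_snd, e2]
  · obtain ⟨h1, h2, h3⟩ := hexc
    refine ⟨h1, h2, ?_⟩
    have h4 : ((CInt.baseChangeOver fV φV g ≫ b).base : ↥(pullback (fV ≫ φV) g) → ↥(pullback φ g)) '' Z =
        b.base '' ((CInt.baseChangeOver fV φV g).base '' Z) := by
      rw [← Set.image_comp]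
      rfl
    rw [h4]
    exact h3.image _

theorem main : K755.SSPlan.OpenC.{u} := by
  intro S V D V' D' CV DV _ φ i k _ kD i' sq iV fV fD h hη hηD
  let W := k.opensRange
  let e : V' ≅ (W : Scheme.{u}) := k.isoOpensRange
  have he : e.hom ≫ W.ι = k := k.isoOpensRange_hom_ι
  have he' : e.inv ≫ k = W.ι := k.isoOpensRange_inv_comp
  have sq1 : IsPullback kD (i' ≫ e.hom) i W.ι :=
    IsPullback.of_iso sq (Iso.refl _) (Iso.refl _) e (Iso.refl _) (by simp) (by simp) (by simp) (by simp [he])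
  have sq2 : IsPullback (i ⁻¹ᵁ W).ι (i ∣_ W) i W.ι := (isPullback_morphismRestrict i W).flip
  let eD : D' ≅ ((i ⁻¹ᵁ W : D.Opens) : Scheme.{u}) := sq1.isoIsPullback _ _ sq2
  have heD : eD.hom ≫ (i ∣_ W) = i' ≫ e.hom := sq1.isoIsPullback_hom_snd _ _ sq2
  have heD' : eD.inv ≫ i' = (i ∣_ W) ≫ e.inv := by
    rw [← cancel_epi eD.hom, ← Category.assoc, eD.hom_inv_id, Category.id_comp, ← Category.assoc, heD,
      Category.assoc, e.hom_inv_id, Category.comp_id]
  have sV : IsPullback (𝟙 CV) (fV ≫ e.hom) fV e.inv := IsPullback.of_horiz_isIso ⟨by simp⟩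
  have sD : IsPullback (𝟙 DV) (fD ≫ eD.hom) fD eD.inv := IsPullback.of_horiz_isIso ⟨by simp⟩
  have hm : (fV ≫ e.hom) ≫ W.ι ≫ φ = fV ≫ k ≫ φ := by
    rw [← he]
    simp only [Category.assoc]
  have hkφ : e.inv ≫ k ≫ φ = W.ι ≫ φ := by rw [← Category.assoc, he']
  obtain ⟨⟨⟨h1, h2, h3, h4⟩, h5⟩, h6⟩ := h
  refine ⟨fV ≫ e.hom, fD ≫ eD.hom, ⟨⟨⟨?_, ?_, ?_, ?_⟩, ?_⟩, ?_⟩, ?_, ?_⟩
  · rw [← Category.assoc, h1, Category.assoc, Category.assoc, heD]
  · rw [hm]
    exact h2
  · exact K971.SSBasic.isModification_of_isPullback sV h3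
  · exact K971.SSBasic.isModification_of_isPullback sD h4
  · rw [hm]
    exact h5
  · exact noExcComp_of_comp h6 _ _ e.inv hkφ (by simp)
  · rw [← hkφ]
    exact K971.SSBasic.isEtaIso_of_isPullback hη sV
  · have h7 := K971.SSBasic.isEtaIso_of_isPullback hηD sD
    have h8 : eD.inv ≫ i' ≫ k ≫ φ = (i ∣_ W) ≫ W.ι ≫ φ := by
      rw [← Category.assoc, heD', Category.assoc, hkφ]
    rw [h8] at h7
    exact h7

end K478.OpenC
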