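import Groth.Agent.SSMod.K807.Iface3
import Groth.Agent.SemiFact.K793.Chart
import Groth.Agent.Models.NodeNodal

/-!
# Charts of nodal families with one point in the fibre

`K807.Iface.NodeChart`: an étale neighbourhood of a closed point of a nodal family over a discrete valuation ring,
étale over `Spec R[u,v]/(uv - a)`, with a single point in the fibre.
-/

set_option autoImplicit false
universe u

open CategoryTheory CategoryTheory.Limits AlgebraicGeometry IsLocalRing TopologicalSpace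

namespace K478.NodeChart

open Groth.Agent.Models.NodeRing Groth.Agent.Models.NodeNodal

/-- `Spec D[u,v]/(uv - a) ⟶ Spec R[u,v]/(uv - a)` is étale for `R → D` étale. -/
theorem etale_mapW (R D : Type u) [CommRing R] [CommRing D] [Algebra R D] [Algebra.Etale R D] (a : R) :
    Etale (Spec.map (CommRingCat.ofHom (mapW (algebraMap R D) a))) := by
  have h1 := isPullback_SpecMap_of_isPushout _ _ _ _ (isPushout_W (algebraMap R D) a)
  have h2 : Etale (Spec.map (CommRingCat.ofHom (algebraMap R D))) := by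
    rw [HasRingHomProperty.Spec_iff (P := @Etale)]
    exact RingHom.etale_algebraMap.2 inferInstance
  exact MorphismProperty.of_isPullback (P := @Etale) h1 h2

/-- A point in a quasi-finite fibre is isolated. -/
theorem exists_open {X Y : Scheme.{u}} (f : X ⟶ Y) [Etale f] (x : X) :
    ∃ V : X.Opens, x ∈ V ∧ ∀ x' ∈ V, f x' = f x → x' = x := by
  have : LocallyQuasiFinite f := K793.Chart.locallyQuasiFinite_of_etale f
  obtain ⟨V, hV, hV'⟩ := (isDiscrete_iff_forall_mem_exists_isOpen.1 (f.isDiscrete_preimage_singleton (f x))) x rfl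
  refine ⟨⟨V, hV⟩, ?_, ?_⟩
  · have : x ∈ V ∩ (f ⁻¹' {f x}) := by rw [hV']; exact rfl
    exact this.1
  · intro x' hx' h
    have : x' ∈ V ∩ (f ⁻¹' {f x}) := ⟨hx', h⟩
    rw [hV'] at this
    exact this

theorem main : K807.Iface.NodeChart.{u} := by
  intro R _ _ _ _ ϖ hϖ Y q hq y hy hqy
  obtain ⟨C⟩ := K793.Chart.exists_nchart hϖ q hq y hqy
  obtain ⟨D, irr, a', ha', U, e, v, hv, g, w⟩ := C
  obtain ⟨a, ha, rfl⟩ : ∃ a : R, (a = 0 ∨ ∃ n : ℕ, a = ϖ ^ n) ∧ algebraMap R D a = a' := by
    rcases ha' with rfl | ⟨n, rfl⟩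
    · exact ⟨0, Or.inl rfl, map_zero _⟩
    · exact ⟨ϖ ^ n, Or.inr ⟨n, rfl⟩, map_pow _ _ _⟩
  have hm := etale_mapW R D a
  obtain ⟨V₁, hv₁, h₁⟩ := exists_open (g ≫ Spec.map (CommRingCat.ofHom (mapW (algebraMap R D) a))) v
  obtain ⟨V₂, hv₂, h₂⟩ := exists_open e v
  let V : U.Opens := V₁ ⊓ V₂
  refine ⟨a, ha, V, V.ι ≫ e, inferInstance, ⟨v, hv₁, hv₂⟩, hv,
    V.ι ≫ g ≫ Spec.map (CommRingCat.ofHom (mapW (algebraMap R D) a)), inferInstance, ?_, ?_, ?_⟩
  · rw [Category.assoc, Category.assoc, Category.assoc, ← w]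
    congr 2
    have := (isPushout_W (algebraMap R D) a).w
    rw [← Spec.map_comp]
    erw [← this]
    rw [Spec.map_comp]
  · have h3 : ({⟨v, hv₁, hv₂⟩} : Set V) = (V.ι ≫ e).base ⁻¹' {y} := by
      ext z
      constructor
      · rintro rfl
        exact hv
      · intro hz
        exact Subtype.ext (h₂ z.1 z.2.2 (hz.trans hv.symm))
    rw [h3]
    exact hy.preimage (V.ι ≫ e).continuous
  · intro v' hv'
    exact Subtype.ext (h₁ v'.1 v'.2.1 hv')

end K478.NodeChart
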